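import Mathlib

/-!
Arithmetic for the largest element orders of projective unitary groups.
-/

set_option autoImplicit false

namespace CfsgLib.PGUOrder

/-- `q ^ a - (-1) ^ a`. -/
def hh (q a : ℕ) : ℕ := if Even a then q ^ a - 1 else q ^ a + 1

/-- The bound for semisimple elements. -/
def MM (q s : ℕ) : ℕ := if s ≤ 1 then 1 else if Even s then q ^ (s - 1) + 1 else q ^ (s - 1) - 1

variable {q : ℕ}

theorem hh_le (a : ℕ) : hh q a ≤ q ^ a + 1 := by
  unfold hh; split <;> omega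

theorem hh_pos (hq : 2 ≤ q) {a : ℕ} (ha : 1 ≤ a) : 0 < hh q a := by
  have : q ≤ q ^ a := Nat.le_self_pow (by omega) q
  unfold hh; split <;> omega

theorem succ_dvd_hh (a : ℕ) : q + 1 ∣ hh q a := by
  unfold hh
  split_ifs with h
  · obtain ⟨b, rfl⟩ := h
    refine dvd_trans ⟨q - 1, ?_⟩ (show q ^ 2 - 1 ∣ q ^ (b + b) - 1 from ?_)
    · simpa using Nat.sq_sub_sq q 1
    · have h1 := Nat.sub_dvd_pow_sub_pow (q ^ 2) 1 b
      rwa [one_pow, ← pow_mul, two_mul] at h1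
  · have h1 := (Nat.not_even_iff_odd.mp h).nat_add_dvd_pow_add_pow q 1
    rwa [one_pow] at h1

theorem MM_le (hq : 2 ≤ q) {s : ℕ} : MM q s ≤ q ^ (s - 1) + 1 := by
  unfold MM; split_ifs <;> omega

theorem MM_pos (hq : 2 ≤ q) (s : ℕ) : 0 < MM q s := by
  unfold MM
  split_ifs with h1 h2
  · omega
  · omega
  · have : q ≤ q ^ (s - 1) := Nat.le_self_pow (by omega) q
    omega

theorem MM_succ (hq : 2 ≤ q) (s : ℕ) : MM q s ≤ MM q (s + 1) := by
  rcases Nat.lt_or_ge s 2 with h | h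
  · rw [show MM q s = 1 from if_pos (by omega)]
    exact MM_pos hq _
  · have h1 : q ^ (s - 1) + 2 ≤ q ^ s := by
      rw [show q ^ s = q ^ (s - 1) * q by rw [← pow_succ, Nat.sub_add_cancel (by omega)]]
      have := Nat.le_self_pow (show s - 1 ≠ 0 by omega) q
      nlinarith
    refine (MM_le hq).trans ?_
    unfold MM
    rw [if_neg (show ¬ s + 1 ≤ 1 by omega), Nat.add_sub_cancel]
    split <;> omega

theorem MM_mono (hq : 2 ≤ q) {s t : ℕ} (h : s ≤ t) : MM q s ≤ MM q t :=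
  monotone_nat_of_le_succ (MM_succ hq) h

theorem hh_le_single (hq : 2 ≤ q) {a : ℕ} (ha : 1 ≤ a) : hh q a ≤ (q + 1) * MM q a := by
  rcases Nat.lt_or_ge a 2 with h | h
  · obtain rfl : a = 1 := by omega
    simp [hh, MM]
  · have e : q ^ a = q * q ^ (a - 1) := by rw [← pow_succ', Nat.sub_add_cancel ha]
    unfold hh MM
    rw [if_neg (show ¬ a ≤ 1 by omega)]
    split_ifs with hev
    · rw [add_mul, mul_add]; omega
    · have : q ^ 2 ≤ q ^ (a - 1) := Nat.pow_le_pow_right (by omega) (by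
        rcases Nat.not_even_iff_odd.mp hev with ⟨c, rfl⟩
        omega)
      rw [add_mul, Nat.mul_sub, mul_one, one_mul]
      nlinarith [Nat.sub_add_cancel (show q ≤ q * q ^ (a - 1) by nlinarith), Nat.sub_add_cancel (show 1 ≤ q ^ (a - 1) by nlinarith)]

/-- Two orbits. -/
theorem hh_mul_le (hq : 2 ≤ q) {a b : ℕ} (ha : 1 ≤ a) (hb : 1 ≤ b) :
    hh q a * hh q b ≤ (q + 1) * MM q (a + b) := by
  have hA : q ≤ q ^ a := Nat.le_self_pow (by omega) q
  have hB : q ≤ q ^ b := Nat.le_self_pow (by omega) q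
  have e : q ^ a * q ^ b = q * q ^ (a + b - 1) := by
    rw [← pow_add, ← pow_succ', Nat.sub_add_cancel (by omega)]
  have hAS : q ^ a ≤ q ^ (a + b - 1) := Nat.pow_le_pow_right (by omega) (by omega)
  have hBS : q ^ b ≤ q ^ (a + b - 1) := Nat.pow_le_pow_right (by omega) (by omega)
  unfold hh MM
  rw [if_neg (show ¬ a + b ≤ 1 by omega)]
  set A := q ^ a
  set B := q ^ b
  set S := q ^ (a + b - 1)
  clear_value A B S
  by_cases h1 : Even a <;> by_cases h2 : Even b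
  · rw [if_pos h1, if_pos h2, if_pos (h1.add h2)]
    calc (A - 1) * (B - 1) ≤ A * B := Nat.mul_le_mul (Nat.sub_le _ _) (Nat.sub_le _ _)
      _ ≤ (q + 1) * (S + 1) := by rw [e]; exact Nat.mul_le_mul (by omega) (by omega)
  · rw [if_pos h1, if_neg h2, if_neg (by simp [Nat.even_add, h1, h2])]
    obtain ⟨A', hA'⟩ : ∃ A', A = A' + 1 := ⟨A - 1, by omega⟩
    obtain ⟨S', hS'⟩ : ∃ S', S = S' + 1 := ⟨S - 1, by omega⟩
    subst hA' hS'
    rw [Nat.add_sub_cancel, Nat.add_sub_cancel]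
    nlinarith
  · rw [if_neg h1, if_pos h2, if_neg (by simp [Nat.even_add, h1, h2])]
    obtain ⟨B', hB'⟩ : ∃ B', B = B' + 1 := ⟨B - 1, by omega⟩
    obtain ⟨S', hS'⟩ : ∃ S', S = S' + 1 := ⟨S - 1, by omega⟩
    subst hB' hS'
    rw [Nat.add_sub_cancel, Nat.add_sub_cancel]
    nlinarith
  · rw [if_neg h1, if_neg h2, if_pos (by simp [Nat.even_add, h1, h2])]
    have h3 : A + B ≤ S + q := by
      refine Nat.le_of_mul_le_mul_left (c := q) ?_ (by omega)
      obtain ⟨A', rfl⟩ : ∃ A', A = q + A' := ⟨A - q, by omega⟩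
      obtain ⟨B', rfl⟩ : ∃ B', B = q + B' := ⟨B - q, by omega⟩
      nlinarith
    nlinarith

/-- One more orbit. -/
theorem hh_mul_MM_le (hq : 2 ≤ q) {a b : ℕ} (ha : 1 ≤ a) (hb : 2 ≤ b) :
    hh q a * MM q b ≤ (q + 1) * MM q (a + b) := by
  refine (Nat.mul_le_mul (hh_le a) (MM_le hq)).trans ?_
  have hA : q ≤ q ^ a := Nat.le_self_pow (by omega) q
  have hB : q ≤ q ^ (b - 1) := Nat.le_self_pow (by omega) q
  have e : q ^ a * q ^ (b - 1) = q ^ (a + b - 1) := by
    rw [← pow_add, show a + (b - 1) = a + b - 1 by omega]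
  have h : q ^ (a + b - 1) - 1 ≤ MM q (a + b) := by
    unfold MM; rw [if_neg (by omega)]; split <;> omega
  refine le_trans ?_ (Nat.mul_le_mul le_rfl h)
  set A := q ^ a
  set B := q ^ (b - 1)
  rw [← e]
  clear_value A B
  obtain ⟨A', rfl⟩ : ∃ A', A = q + A' := ⟨A - q, by omega⟩
  obtain ⟨B', rfl⟩ : ∃ B', B = q + B' := ⟨B - q, by omega⟩
  rw [Nat.mul_sub, mul_one]
  refine Nat.le_sub_of_add_le ?_
  nlinarith [Nat.mul_le_mul hq (Nat.mul_le_mul hq le_rfl : 2 * q ≤ q * q), Nat.zero_le (A' * B' * q), Nat.mul_le_mul hq hq]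

theorem clog_pow_le_mul {p : ℕ} (hp : 2 ≤ p) {j : ℕ} (hj : 1 ≤ j) : p ^ Nat.clog p (j + 1) ≤ p * j := by
  have h1 := Nat.pow_pred_clog_lt_self (b := p) (by omega) (show 1 < j + 1 by omega)
  have h2 : 0 < Nat.clog p (j + 1) := Nat.clog_pos (by omega) (by omega)
  rw [Nat.pred_eq_sub_one] at h1
  calc p ^ Nat.clog p (j + 1) = p * p ^ (Nat.clog p (j + 1) - 1) := by rw [← pow_succ', Nat.sub_add_cancel h2]
    _ ≤ p * j := Nat.mul_le_mul le_rfl (by omega)

theorem clog_pow_one {p : ℕ} : p ^ Nat.clog p 1 = 1 := by rw [Nat.clog_one_right, pow_zero]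

theorem clog_pow_two {p : ℕ} (hp : 2 ≤ p) : p ^ Nat.clog p 2 ≤ p := by
  simpa using clog_pow_le_mul hp (le_refl 1)

theorem clog_pow_three {p : ℕ} (hp : 3 ≤ p) : p ^ Nat.clog p 3 ≤ p := by
  rw [Nat.clog_eq_one (by omega) hp, pow_one]

/-- Three or more steps of the unipotent part cost more than they bring. -/
theorem large_le {p : ℕ} (hp : 2 ≤ p) (hpq : p ≤ q) (hp2 : p = 2 ∨ 3 ≤ q) {s j : ℕ} (hs : 1 ≤ s) (hj : 3 ≤ j) :
    p ^ Nat.clog p (j + 1) * MM q s ≤ q ^ (s + j - 1) - 1 := by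
  have hq : 2 ≤ q := hp.trans hpq
  have key : ∀ i : ℕ, 3 ≤ i → 3 * q * i + 1 ≤ 2 * q ^ i ∨ (q = 2 ∧ i = 3) := by
    intro i hi
    induction i, hi using Nat.le_induction with
    | base =>
      rcases Nat.lt_or_ge q 3 with h | h
      · exact Or.inr ⟨by omega, rfl⟩
      · left
        nlinarith [Nat.mul_le_mul h h]
    | succ i hi ih =>
      left
      rcases ih with h | ⟨hq2, hi3⟩
      · rw [pow_succ]
        have h1 := Nat.mul_le_mul h hq
        nlinarith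
      · rw [hq2, hi3]; norm_num
  have hx : q ^ (s + j - 1) = q ^ j * q ^ (s - 1) := by rw [← pow_add]; congr 1; omega
  rw [hx]
  refine Nat.le_sub_of_add_le ?_
  have hpe : p ^ Nat.clog p (j + 1) ≤ q * j :=
    (clog_pow_le_mul hp (show 1 ≤ j by omega)).trans (Nat.mul_le_mul hpq le_rfl)
  rcases key j hj with h | ⟨hq2, hj3⟩
  · rcases Nat.lt_or_ge s 2 with h2 | h2
    · obtain rfl : s = 1 := by omega
      rw [show MM q 1 = 1 from if_pos le_rfl, mul_one, Nat.sub_self, pow_zero, mul_one]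
      nlinarith
    · have hx2 : 2 ≤ q ^ (s - 1) := hq.trans (Nat.le_self_pow (by omega) q)
      have h1 := Nat.mul_le_mul hpe (MM_le (s := s) hq)
      have h3 := Nat.mul_le_mul h (le_refl (q ^ (s - 1)))
      have h4 := Nat.mul_le_mul (le_refl (q * j)) hx2
      nlinarith
  · obtain rfl : p = 2 := by omega
    subst hj3
    rw [show 2 ^ Nat.clog 2 (3 + 1) = 4 by decide, hq2]
    norm_num
    rcases Nat.lt_or_ge s 2 with h2 | h2
    · obtain rfl : s = 1 := by omega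
      norm_num [MM]
    · have : 2 ≤ 2 ^ (s - 1) := Nat.le_self_pow (by omega) 2
      have hM := MM_le (s := s) (le_refl 2)
      omega

end CfsgLib.PGUOrder
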