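import Cfsg.Agent.Lib.PGUOrder.Roots
import Cfsg.Agent.Lib.SemisimpleCount.Unitary
import Cfsg.Agent.Lib.UnitaryBasic
import Cfsg.Agent.Lib.SpectrumPowers.UnitaryBound

/-!
Every element of `GU` has a small power that is scalar.
-/

set_option autoImplicit false
set_option maxHeartbeats 800000

namespace CfsgLib.PGUOrder

open Polynomial Matrix

variable {F : Type*} [Field F] [Fintype F] {n q : ℕ}

theorem gu_star {σ : F →+* F} (hσ : ∀ x, σ x = x ^ q) (g : Cfsg.GU n F q) :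
    (g.1.1.map σ)ᵀ * g.1.1 = 1 := by
  have hform : ∀ u v : Fin n → F, Cfsg.hermForm n F q u v = u ⬝ᵥ (σ ∘ v) := fun u v => by
    simp [Cfsg.hermForm, dotProduct, hσ]
  have key : ∀ u v, u ⬝ᵥ ((g.1.1ᵀ * g.1.1.map σ) *ᵥ (σ ∘ v)) = u ⬝ᵥ (σ ∘ v) := fun u v => by
    have hsv : σ ∘ (g.1.1 *ᵥ v) = g.1.1.map σ *ᵥ (σ ∘ v) := funext fun i => RingHom.map_mulVec σ _ _ i
    rw [← hform u v, ← g.2 u v, hform]
    show _ = (g.1.1 *ᵥ u) ⬝ᵥ (σ ∘ (g.1.1 *ᵥ v))
    rw [hsv, ← mulVec_mulVec, dotProduct_mulVec u, vecMul_transpose]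
  have h1 : g.1.1ᵀ * g.1.1.map σ = 1 := Matrix.ext fun i j => by
    have := key (Pi.single i 1) (Pi.single j 1)
    have e : σ ∘ (Pi.single j 1 : Fin n → F) = Pi.single j 1 :=
      funext fun k => by by_cases hk : k = j <;> simp [hk]
    rw [e, single_dotProduct, single_dotProduct, one_mul, one_mul, Matrix.mulVec_single_one, col_apply] at this
    rw [this, Matrix.one_apply, Pi.single_apply]
  have h2 := congrArg Matrix.transpose h1
  simpa [transpose_mul] using h2

/-- An element of `GU` is fixed by inverse conjugate transposition. -/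
theorem twist_eq (hF : Fintype.card F = q ^ 2) {σ : F →+* F} (hσ : ∀ x, σ x = x ^ q) (g : Cfsg.GU n F q) :
    CfsgLib.SemisimpleCount.twist σ g.1 = g.1 := by
  refine Units.ext ?_
  have h : (g.1⁻¹).1 = (g.1.1.map σ)ᵀ := Units.inv_eq_of_mul_eq_one_left (gu_star hσ g)
  show ((g.1⁻¹).1.map σ)ᵀ = g.1.1
  rw [h]
  ext i j
  simp only [transpose_apply, map_apply]
  rw [hσ, hσ, ← pow_mul, ← sq, ← hF, FiniteField.pow_card]

/-- Eigenvalues of the inverse conjugate transpose. -/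
theorem root_twist {K : Type*} [Field K] (ι : F →+* K) {fr : K →+* K} (hfr : ∀ x, fr x = x ^ q)
    {σ : F →+* F} (hσ : ∀ x, σ x = x ^ q) (A : GL (Fin n) F) {t : K} (ht0 : t ≠ 0)
    (h : eval₂ ι t A.1.charpoly = 0) :
    eval₂ ι (psi q t) (CfsgLib.SemisimpleCount.twist σ A).1.charpoly = 0 := by
  show eval₂ ι (psi q t) (((A⁻¹).1.map σ)ᵀ).charpoly = 0
  rw [CfsgLib.SemisimpleCount.charpoly_transpose_map, eval₂_map,
    show ι.comp σ = fr.comp ι from RingHom.ext fun x => by simp [hσ, hfr],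
    show psi q t = fr t⁻¹ by rw [hfr, inv_pow]; rfl, ← hom_eval₂]
  suffices e : eval₂ ι t⁻¹ (A⁻¹).1.charpoly = 0 by rw [e, map_zero]
  rw [Matrix.coe_units_inv, Matrix.charpoly_inv _ A.isUnit, ← Matrix.reverse_charpoly, eval₂_mul]
  haveI := invertibleOfNonzero ht0
  have h2 : eval₂ ι t⁻¹ A.1.charpoly.reverse = 0 := by
    rw [← invOf_eq_inv t, eval₂_reverse_eq_zero_iff]
    exact h
  rw [h2, mul_zero]

theorem charpoly_coeff_zero_ne (A : GL (Fin n) F) : A.1.charpoly.coeff 0 ≠ 0 := fun h =>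
  ((Matrix.isUnit_iff_isUnit_det _).mp A.isUnit).ne_zero
    (by rw [Matrix.det_eq_sign_charpoly_coeff, h, mul_zero])

/-- Some power of bounded exponent is scalar. -/
theorem exists_scalar_pow (p f : ℕ) [Fact p.Prime] [CharP F p] (hqp : q = p ^ f)
    (hF : Fintype.card F = q ^ 2) (hn : 1 ≤ n) (g : Cfsg.GU n F q) :
    ∃ (s j N : ℕ), 1 ≤ s ∧ s + j ≤ n ∧ 0 < N ∧ (∃ c : F, g.1.1 ^ N = Matrix.scalar (Fin n) c) ∧
      N ≤ p ^ Nat.clog p (j + 1) * MM q s := by
  classical
  obtain ⟨hq, σ, hσ⟩ := CfsgLib.UnitaryBasic.frob_exists hF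
  let K := AlgebraicClosure F
  set ι := algebraMap F K with hι
  haveI : CharP K p := charP_of_injective_algebraMap ι.injective p
  set fr : K →+* K := iterateFrobenius K p f with hfrdef
  have hfr : ∀ x : K, fr x = x ^ q := fun x => by rw [hfrdef, iterateFrobenius_def, hqp]
  set χ := g.1.1.charpoly.map ι with hχ
  have hmon : χ.Monic := g.1.1.charpoly_monic.map _
  have hspl : χ.Splits := IsAlgClosed.splits χ
  set Rts := χ.roots with hRts
  have hdeg : Multiset.card Rts = n := by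
    rw [hRts, splits_iff_card_roots.mp hspl, hχ, g.1.1.charpoly_monic.natDegree_map,
      Matrix.charpoly_natDegree_eq_dim, Fintype.card_fin]
  have hmem : ∀ {x}, x ∈ Rts ↔ eval₂ ι x g.1.1.charpoly = 0 := fun {x} => by
    rw [hRts, mem_roots hmon.ne_zero, IsRoot.def, hχ, eval_map]
  have h0 : ∀ x ∈ Rts, x ≠ 0 := fun x hx h => by
    subst h
    have := hmem.mp hx
    rw [eval₂_at_zero, map_eq_zero] at this
    exact charpoly_coeff_zero_ne g.1 this
  have hψ : ∀ x ∈ Rts, psi q x ∈ Rts := fun x hx => by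
    have := root_twist ι hfr hσ g.1 (h0 x hx) (hmem.mp hx)
    rw [twist_eq hF hσ] at this
    exact hmem.mpr this
  set S := Rts.toFinset with hS
  have hne : S.Nonempty := by
    obtain ⟨x, hx⟩ := Multiset.card_pos_iff_exists_mem.mp (by omega : 0 < Multiset.card Rts)
    exact ⟨x, Multiset.mem_toFinset.mpr hx⟩
  have hinj : Function.Injective (fun x : K => x ^ q) := fun x y h => fr.injective (by rw [hfr, hfr]; exact h)
  obtain ⟨L, c, hL, hLle, hc, hxL⟩ := exists_exponent hq hinj S hne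
    (fun x hx => h0 x (Multiset.mem_toFinset.mp hx))
    (fun x hx => Multiset.mem_toFinset.mpr (hψ x (Multiset.mem_toFinset.mp hx)))
  obtain ⟨y, hy⟩ : ∃ y : F, ι y = c := by
    refine CfsgLib.SpectrumPowers.mem_of_pow_eq c ?_
    have hc0 : c ≠ 0 := fun h => by simp [h] at hc
    have e : c ^ q = c⁻¹ := eq_inv_of_mul_eq_one_left (by rw [← pow_succ, hc])
    rw [hF, sq, pow_mul, e, inv_pow, e, inv_inv]
  obtain ⟨x0, hx0, hx0k⟩ := Finset.exists_mem_eq_sup S hne (fun x => Rts.count x)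
  set k := S.sup (fun x => Rts.count x) with hk
  have hk1 : 1 ≤ k := by rw [hx0k]; exact Multiset.count_pos.mpr (Multiset.mem_toFinset.mp hx0)
  have hks : S.card + (k - 1) ≤ n := by
    have hsum : ∑ x ∈ S, Rts.count x = n := by rw [hS, Multiset.toFinset_sum_count_eq, hdeg]
    have e := Finset.add_sum_erase S (fun x => Rts.count x) hx0
    have e2 := Finset.card_nsmul_le_sum (S.erase x0) (fun x => Rts.count x) 1 fun x hx =>
      Multiset.count_pos.mpr (Multiset.mem_toFinset.mp (Finset.mem_of_mem_erase hx))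
    rw [smul_eq_mul, mul_one, Finset.card_erase_of_mem hx0] at e2
    omega
  set E := Nat.clog p (k - 1 + 1) with hE
  have hkE : k ≤ p ^ E := by
    have := Nat.le_pow_clog (Fact.out : p.Prime).one_lt (k - 1 + 1)
    rw [← hE] at this; omega
  refine ⟨S.card, k - 1, L * p ^ E, hne.card_pos, hks, Nat.mul_pos hL (pow_pos (Fact.out : p.Prime).pos _),
    ⟨y ^ p ^ E, ?_⟩, by rw [mul_comm]; exact Nat.mul_le_mul le_rfl hLle⟩
  have hdvd : χ ∣ ((X ^ (L * p ^ E) - C (y ^ p ^ E) : F[X]).map ι) := by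
    have hpe : (X ^ (L * p ^ E) - C (y ^ p ^ E) : F[X]).map ι = (X ^ L - C c) ^ p ^ E := by
      rw [Polynomial.map_sub, Polynomial.map_pow, map_X, map_C, sub_pow_char_pow, ← pow_mul, map_pow, hy, C_pow]
    have hne0 : (X ^ L - C c) ^ p ^ E ≠ 0 := pow_ne_zero _ (X_pow_sub_C_ne_zero hL _)
    rw [hpe, hspl.eq_prod_roots_of_monic hmon, Multiset.prod_X_sub_C_dvd_iff_le_roots hne0,
      Multiset.le_iff_count]
    intro x
    by_cases hx : x ∈ Rts
    · refine le_trans (Finset.le_sup (f := fun x => Rts.count x) (Multiset.mem_toFinset.mpr hx)) ?_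
      rw [← hk]
      refine hkE.trans ?_
      rw [roots_pow, Multiset.count_nsmul]
      refine Nat.le_mul_of_pos_right _ (Multiset.count_pos.mpr ?_)
      rw [mem_roots (X_pow_sub_C_ne_zero hL _)]
      simp [hxL x (Multiset.mem_toFinset.mpr hx)]
    · rw [← hRts, Multiset.count_eq_zero.mpr hx]; exact Nat.zero_le _
  rw [hχ, map_dvd_map' ι] at hdvd
  obtain ⟨r, hr⟩ := hdvd
  have h := congrArg (aeval g.1.1) hr
  rw [map_mul, Matrix.aeval_self_charpoly, zero_mul, map_sub, map_pow, aeval_X, aeval_C, sub_eq_zero] at h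
  rw [h, Matrix.algebraMap_eq_diagonal]
  rfl

end CfsgLib.PGUOrder
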