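import Cfsg.Agent.Lib.PGUOrder.Arith

/-!
A finite set of nonzero field elements closed under `x ↦ (x ^ q)⁻¹` has a small exponent modulo
the elements fixed by this map.
-/

set_option autoImplicit false

namespace CfsgLib.PGUOrder

variable {K : Type*} [Field K] {q : ℕ}

/-- The map on eigenvalues of a unitary matrix. -/
def psi (q : ℕ) (x : K) : K := (x ^ q)⁻¹

theorem psi_iterate (x : K) : ∀ j : ℕ,
    (psi q)^[j] x = if Even j then x ^ q ^ j else (x ^ q ^ j)⁻¹
  | 0 => by simp
  | j + 1 => by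
    rw [Function.iterate_succ_apply', psi_iterate x j]
    by_cases h : Even j
    · rw [if_pos h, if_neg (by simpa [Nat.even_add_one] using h)]
      show ((x ^ q ^ j) ^ q)⁻¹ = _
      rw [← pow_mul, ← pow_succ]
    · rw [if_neg h, if_pos (by simpa [Nat.even_add_one] using h)]
      show (((x ^ q ^ j)⁻¹) ^ q)⁻¹ = _
      rw [inv_pow, inv_inv, ← pow_mul, ← pow_succ]

theorem pow_hh {x : K} (hx : x ≠ 0) (hq : 1 ≤ q) {a : ℕ} (h : (psi q)^[a] x = x) : x ^ hh q a = 1 := by
  rw [psi_iterate] at h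
  unfold hh
  split_ifs at h ⊢ with he
  · have h1 : x ^ (q ^ a - 1) * x = 1 * x := by
      rw [← pow_succ, Nat.sub_add_cancel (Nat.one_le_pow _ _ hq), one_mul, h]
    exact mul_right_cancel₀ hx h1
  · rw [inv_eq_iff_eq_inv] at h
    rw [pow_succ, h, inv_mul_cancel₀ hx]

/-- The result of the induction. -/
def Killed (q : ℕ) (R : Finset K) : Prop :=
  (∀ x ∈ R, x ^ hh q R.card = 1) ∧ (∃ c : K, c ^ (q + 1) = 1 ∧ ∀ x ∈ R, x ^ (hh q R.card / (q + 1)) = c) ∨
  2 ≤ R.card ∧ ∃ L, 0 < L ∧ q + 1 ∣ L ∧ L ≤ MM q R.card ∧ ∀ x ∈ R, x ^ L = 1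

theorem killed (hq : 2 ≤ q) (hinj : Function.Injective (fun x : K => x ^ q)) :
    ∀ (n : ℕ) (R : Finset K), R.card = n → R.Nonempty → (∀ x ∈ R, x ≠ 0) → (∀ x ∈ R, psi q x ∈ R) →
      Killed q R := by
  classical
  have hψ : Function.Injective (psi q : K → K) := fun x y h => hinj (inv_injective h)
  intro n
  induction n using Nat.strong_induction_on with
  | h n ih =>
    intro R hn hne h0 hψR
    obtain ⟨α, hα⟩ := hne
    have hmem : ∀ j, (psi q)^[j] α ∈ R := fun j => by
      induction j with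
      | zero => exact hα
      | succ j ihj => rw [Function.iterate_succ_apply']; exact hψR _ ihj
    have hper : α ∈ Function.periodicPts (psi q) := by
      obtain ⟨x, y, hxy, h⟩ := Finite.exists_ne_map_eq_of_infinite fun j : ℕ => (⟨(psi q)^[j] α, hmem j⟩ : R)
      have h' : (psi q)^[x] α = (psi q)^[y] α := congrArg Subtype.val h
      rcases lt_or_gt_of_ne hxy with hlt | hlt
      · exact ⟨y - x, by omega, hψ.iterate x (by rw [← Function.iterate_add_apply, Nat.add_sub_cancel' hlt.le, h'])⟩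
      · exact ⟨x - y, by omega, hψ.iterate y (by rw [← Function.iterate_add_apply, Nat.add_sub_cancel' hlt.le, h'])⟩
    set a := Function.minimalPeriod (psi q) α with ha
    have hapos : 0 < a := Function.minimalPeriod_pos_of_mem_periodicPts hper
    set O := (Finset.range a).image (fun j => (psi q)^[j] α) with hO
    have hOc : O.card = a := by
      rw [hO, Finset.card_image_of_injOn, Finset.card_range]
      exact fun x hx y hy h => Function.iterate_injOn_Iio_minimalPeriod (by simpa using hx) (by simpa using hy) h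
    have hOR : O ⊆ R := Finset.image_subset_iff.mpr fun j _ => hmem j
    have hOψ : ∀ x ∈ O, psi q x ∈ O := fun x hx => by
      obtain ⟨j, -, rfl⟩ := Finset.mem_image.mp hx
      refine Finset.mem_image.mpr ⟨(j + 1) % a, Finset.mem_range.mpr (Nat.mod_lt _ hapos), ?_⟩
      rw [Function.iterate_mod_minimalPeriod_eq, Function.iterate_succ_apply']
    have hback : ∀ x, psi q x ∈ O → x ∈ O := fun x hx => by
      have e : O.image (psi q) = O := Finset.eq_of_subset_of_card_le (Finset.image_subset_iff.mpr hOψ)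
        (Finset.card_image_of_injective _ hψ).ge
      rw [← e, Finset.mem_image] at hx
      obtain ⟨y, hy, hyx⟩ := hx
      rwa [← hψ hyx]
    have hkO : ∀ x ∈ O, x ^ hh q a = 1 := fun x hx => by
      obtain ⟨j, -, rfl⟩ := Finset.mem_image.mp hx
      refine pow_hh (h0 _ (hmem j)) (by omega) ?_
      rw [← Function.iterate_add_apply, add_comm, Function.iterate_add_apply, Function.iterate_minimalPeriod]
    obtain ⟨k, hk⟩ := succ_dvd_hh (q := q) a
    have hkdiv : hh q a / (q + 1) = k := by rw [hk, Nat.mul_div_cancel_left _ (by omega)]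
    have hkpos : 0 < k := Nat.pos_of_mul_pos_left (hk ▸ hh_pos hq hapos)
    have hconst : ∀ x ∈ O, x ^ k = α ^ k := fun x hx => by
      obtain ⟨j, -, rfl⟩ := Finset.mem_image.mp hx
      clear hx
      induction j with
      | zero => rfl
      | succ j ihj =>
        rw [Function.iterate_succ_apply']
        show ((((psi q)^[j] α) ^ q)⁻¹) ^ k = _
        rw [inv_pow, ← pow_mul, mul_comm, pow_mul, ihj]
        refine inv_eq_of_mul_eq_one_left ?_
        rw [← pow_succ', ← pow_mul, mul_comm, ← hk]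
        exact hkO α (Finset.mem_image.mpr ⟨0, Finset.mem_range.mpr hapos, rfl⟩)
    rcases (R \ O).eq_empty_or_nonempty with he | hne'
    · obtain rfl : R = O := Finset.Subset.antisymm (Finset.sdiff_eq_empty_iff_subset.mp he) hOR
      refine Or.inl ⟨by rw [hOc]; exact hkO, α ^ k, ?_, by rw [hOc, hkdiv]; exact hconst⟩
      rw [← pow_mul, mul_comm, ← hk]
      exact hkO α hα
    have hsum : (R \ O).card + a = R.card := by rw [← hOc]; exact Finset.card_sdiff_add_card_eq_card hOR
    have hb : 1 ≤ (R \ O).card := hne'.card_pos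
    have hih := ih _ (by omega) (R \ O) rfl hne' (fun x hx => h0 x (Finset.mem_sdiff.mp hx).1)
      (fun x hx => Finset.mem_sdiff.mpr
        ⟨hψR x (Finset.mem_sdiff.mp hx).1, fun h => (Finset.mem_sdiff.mp hx).2 (hback x h)⟩)
    obtain ⟨L', hL', hd', hbd, hx'⟩ : ∃ L', 0 < L' ∧ q + 1 ∣ L' ∧
        hh q a * L' ≤ (q + 1) * MM q R.card ∧ ∀ x ∈ R \ O, x ^ L' = 1 := by
      rcases hih with ⟨h1, -⟩ | ⟨h2, L', hL', hd', hle, hx'⟩
      · exact ⟨_, hh_pos hq hb, succ_dvd_hh _, by rw [← hsum, add_comm _ a]; exact hh_mul_le hq hapos hb, h1⟩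
      · exact ⟨L', hL', hd', (Nat.mul_le_mul le_rfl hle).trans
          (by rw [← hsum, add_comm _ a]; exact hh_mul_MM_le hq hapos h2), hx'⟩
    refine Or.inr ⟨by omega, k * L', Nat.mul_pos hkpos hL', hd'.mul_left k, ?_, fun x hx => ?_⟩
    · rw [hk, mul_assoc] at hbd
      exact Nat.le_of_mul_le_mul_left hbd (by omega)
    · by_cases hxO : x ∈ O
      · obtain ⟨e, rfl⟩ := hd'
        rw [← mul_assoc, mul_comm k (q + 1), ← hk, pow_mul, hkO x hxO, one_pow]
      · rw [mul_comm, pow_mul, hx' x (Finset.mem_sdiff.mpr ⟨hx, hxO⟩), one_pow]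

/-- One exponent for all of `R`. -/
theorem exists_exponent (hq : 2 ≤ q) (hinj : Function.Injective (fun x : K => x ^ q)) (R : Finset K)
    (hne : R.Nonempty) (h0 : ∀ x ∈ R, x ≠ 0) (hψ : ∀ x ∈ R, psi q x ∈ R) :
    ∃ (L : ℕ) (c : K), 0 < L ∧ L ≤ MM q R.card ∧ c ^ (q + 1) = 1 ∧ ∀ x ∈ R, x ^ L = c := by
  rcases killed hq hinj _ R rfl hne h0 hψ with ⟨-, c, hc, hx⟩ | ⟨-, L, hL, -, hle, hx⟩
  · refine ⟨hh q R.card / (q + 1), c, ?_, ?_, hc, hx⟩
    · exact Nat.div_pos (Nat.le_of_dvd (hh_pos hq hne.card_pos) (succ_dvd_hh _)) (by omega)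
    · exact Nat.div_le_of_le_mul (hh_le_single hq hne.card_pos)
  · exact ⟨L, 1, hL, hle, one_pow _, hx⟩

end CfsgLib.PGUOrder
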