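import Cfsg.Agent.Lib.PGUOrder.Bound
import Cfsg.Agent.Lib.SpectrumPowers.UnitaryWitness

/-!
Elements of `GU` of prescribed order modulo scalars.
-/

set_option autoImplicit false
set_option maxHeartbeats 800000

namespace CfsgLib.PGUOrder

open Polynomial Matrix

variable {F : Type*} [Field F] [Fintype F] {n q : ℕ}

/-- An element of `GU` with an eigenvalue of order `hh q a`. -/
theorem exists_torus (p f : ℕ) [Fact p.Prime] [CharP F p] (hqp : q = p ^ f) (hf : 1 ≤ f)
    (hF : Fintype.card F = q ^ 2) {a : ℕ} (ha : 1 ≤ a) (hsep : a = 1 ∨ q ^ (a - 1) + 1 < hh q a) :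
    ∃ g : Cfsg.GU a F q, ∀ t : ℕ, g.1.1 ^ t = 1 → hh q a ∣ t := by
  classical
  have hp := (Fact.out : p.Prime)
  obtain ⟨hq, σ, hσ⟩ := CfsgLib.UnitaryBasic.frob_exists hF
  let K := AlgebraicClosure F
  set ι := algebraMap F K with hι
  haveI : CharP K p := charP_of_injective_algebraMap ι.injective p
  set fr : K →+* K := iterateFrobenius K p f with hfrdef
  have hfr : ∀ x : K, fr x = x ^ q := fun x => by rw [hfrdef, iterateFrobenius_def, hqp]
  have hpq : p ∣ q ^ a := by rw [hqp, ← pow_mul]; exact dvd_pow_self p (by positivity)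
  have hNp : ¬ p ∣ hh q a := by
    intro h
    have h1 : 1 ≤ q ^ a := Nat.one_le_pow _ _ (by omega)
    refine hp.not_dvd_one ?_
    unfold hh at h
    split_ifs at h
    · have := Nat.dvd_sub hpq h
      rwa [show q ^ a - (q ^ a - 1) = 1 by omega] at this
    · have := Nat.dvd_sub h hpq
      rwa [show q ^ a + 1 - q ^ a = 1 by omega] at this
  haveI : NeZero (hh q a : K) := ⟨by rwa [Ne, CharP.cast_eq_zero_iff K p]⟩
  obtain ⟨z, hz⟩ := IsAlgClosed.exists_root (cyclotomic (hh q a) K) (by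
    rw [degree_cyclotomic]; exact_mod_cast (Nat.totient_pos.mpr (hh_pos (by omega) ha)).ne')
  have hz' : IsPrimitiveRoot z (hh q a) := isRoot_cyclotomic_iff.mp hz
  have hz0 : z ≠ 0 := hz'.ne_zero (hh_pos (by omega) ha).ne'
  have hψinj : Function.Injective (psi q : K → K) := fun x y h =>
    fr.injective (by rw [hfr, hfr]; exact inv_injective h)
  have hza : (psi q)^[a] z = z := by
    rw [psi_iterate]
    have h := hz'.pow_eq_one
    unfold hh at h
    split_ifs with he
    · rw [if_pos he] at h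
      calc z ^ q ^ a = z ^ (q ^ a - 1) * z := by
            rw [← pow_succ, Nat.sub_add_cancel (Nat.one_le_pow _ _ (by omega))]
        _ = z := by rw [h, one_mul]
    · rw [if_neg he, pow_succ] at h
      exact inv_eq_of_mul_eq_one_right h
  have hinjOn : Set.InjOn (fun j => (psi q)^[j] z) (Finset.range a) := by
    suffices H : ∀ x y : ℕ, x < y → y < a → (psi q)^[x] z ≠ (psi q)^[y] z by
      intro x hx y hy h
      simp only [Finset.coe_range, Set.mem_Iio] at hx hy
      rcases lt_trichotomy x y with h' | h' | h'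
      · exact absurd h (H x y h' hy)
      · exact h'
      · exact absurd h.symm (H y x h' hx)
    intro x y hxy hy h
    have hd : (psi q)^[y - x] z = z := hψinj.iterate x (by
      rw [← Function.iterate_add_apply, Nat.add_sub_cancel' hxy.le, h])
    have h1 := pow_hh hz0 (by omega) hd
    rw [hz'.pow_eq_one_iff_dvd] at h1
    have h2 := Nat.le_of_dvd (hh_pos (by omega) (by omega)) h1
    have h3 := (hh_le (q := q) (y - x)).trans (Nat.add_le_add_right
      (Nat.pow_le_pow_right (show 0 < q by omega) (show y - x ≤ a - 1 by omega)) 1)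
    rcases hsep with h | h <;> omega
  set Λ := (Finset.range a).image (fun j => (psi q)^[j] z) with hΛ
  have hΛc : Λ.card = a := by rw [hΛ, Finset.card_image_of_injOn hinjOn, Finset.card_range]
  have hΛψ : ∀ x ∈ Λ, psi q x ∈ Λ := fun x hx => by
    obtain ⟨j, hj, rfl⟩ := Finset.mem_image.mp hx
    rw [Finset.mem_range] at hj
    rw [← Function.iterate_succ_apply' (psi q)]
    rcases Nat.lt_or_ge (j + 1) a with h | h
    · exact Finset.mem_image.mpr ⟨j + 1, Finset.mem_range.mpr h, rfl⟩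
    · exact Finset.mem_image.mpr ⟨0, Finset.mem_range.mpr (by omega), by
        rw [Function.iterate_zero_apply, show j.succ = a by omega, hza]⟩
  have himg : Λ.image (psi q) = Λ := Finset.eq_of_subset_of_card_le (Finset.image_subset_iff.mpr hΛψ)
    (Finset.card_image_of_injective _ hψinj).ge
  have hΛ0 : ∀ x ∈ Λ, x ≠ 0 := fun x hx => by
    obtain ⟨j, -, rfl⟩ := Finset.mem_image.mp hx
    rw [psi_iterate]
    split <;> simp [hz0]
  set PK : K[X] := ∏ x ∈ Λ, (X - C x) with hPK
  have hPm : PK.Monic := monic_prod_of_monic _ _ fun x _ => monic_X_sub_C _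
  have hPd : PK.natDegree = a := by
    rw [hPK, natDegree_prod_of_monic _ _ fun x _ => monic_X_sub_C _]; simp [hΛc]
  have hfr2 : ∀ x, fr (fr x) = psi q (psi q x) := fun x => by
    rw [hfr, hfr]; show _ = (((x ^ q)⁻¹) ^ q)⁻¹; rw [inv_pow, inv_inv]
  have hPmap : PK.map (fr.comp fr) = PK := by
    calc PK.map (fr.comp fr) = ∏ x ∈ Λ, (X - C (psi q (psi q x))) := by
          rw [hPK, Polynomial.map_prod]
          exact Finset.prod_congr rfl fun x _ => by simp [hfr2]
      _ = ∏ x ∈ Λ.image (psi q), (X - C (psi q x)) := by rw [Finset.prod_image (fun x _ y _ h => hψinj h)]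
      _ = ∏ x ∈ Λ.image (psi q), (X - C x) := by
          rw [Finset.prod_image (g := psi q) (f := fun x => X - C x) (fun x _ y _ h => hψinj h), himg]
      _ = PK := by rw [himg]
  have hrat : ∀ k, ∃ t : F, ι t = PK.coeff k := fun k => by
    refine CfsgLib.SpectrumPowers.mem_of_pow_eq _ ?_
    rw [hF, sq, pow_mul, ← hfr, ← hfr, ← RingHom.comp_apply, ← coeff_map, hPmap]
  obtain ⟨P, hP⟩ : ∃ P : F[X], P.map ι = PK :=
    (mem_lifts _).mp ((lifts_iff_coeff_lifts _).mpr fun k => hrat k)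
  have hmon : P.Monic := monic_of_injective ι.injective (hP ▸ hPm)
  have hdeg : P.natDegree = a := by rw [← hPd, ← hP, natDegree_map_eq_of_injective ι.injective]
  have hroot : ∀ x ∈ Λ, eval₂ ι x P = 0 := fun x hx => by
    rw [← eval_map, hP, hPK, eval_prod]
    exact Finset.prod_eq_zero hx (by simp)
  have hne0 : P.coeff 0 ≠ 0 := by
    intro h
    have h1 : PK.eval 0 = 0 := by rw [← hP, eval_map, eval₂_at_zero, h, map_zero]
    rw [hPK, eval_prod, Finset.prod_eq_zero_iff] at h1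
    obtain ⟨x, hx, hx0⟩ := h1
    exact hΛ0 x hx (by simpa using hx0)
  obtain ⟨M, hM, ho⟩ := CfsgLib.SemisimpleClasses.exists_GL (p := p) P hmon hdeg hne0
  set B := CfsgLib.SemisimpleCount.twist σ M with hB
  have hoB : (orderOf B).Coprime p :=
    Nat.Coprime.coprime_dvd_left (orderOf_map_dvd (CfsgLib.SemisimpleCount.twist σ) M) ho
  have hBc : B.1.charpoly = P := by
    refine Polynomial.map_injective ι ι.injective ?_
    have hBm : (B.1.charpoly.map ι).Monic := B.1.charpoly_monic.map _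
    have hBd : (B.1.charpoly.map ι).natDegree = a := by
      rw [B.1.charpoly_monic.natDegree_map, Matrix.charpoly_natDegree_eq_dim, Fintype.card_fin]
    rw [hP, ← sub_eq_zero]
    refine eq_zero_of_degree_lt_of_eval_finset_eq_zero Λ ?_ fun x hx => ?_
    · rw [hΛc]
      have e1 := degree_eq_natDegree hBm.ne_zero
      have e2 := degree_eq_natDegree hPm.ne_zero
      rw [hBd] at e1; rw [hPd] at e2
      refine lt_of_lt_of_eq (degree_sub_lt (e1.trans e2.symm) hBm.ne_zero ?_) e1
      rw [hBm.leadingCoeff, hPm.leadingCoeff]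
    · obtain ⟨t, ht, rfl⟩ := Finset.mem_image.mp (himg.symm ▸ hx : x ∈ Λ.image (psi q))
      rw [eval_sub, eval_map, root_twist ι hfr hσ M (hΛ0 t ht) (by rw [hM]; exact hroot t ht), hPK, eval_prod,
        Finset.prod_eq_zero (hΛψ t ht) (by simp), sub_zero]
  obtain ⟨Q, hQ⟩ := CfsgLib.SemisimpleClasses.exists_conj (CfsgLib.SemisimpleClasses.isSemisimple_of_coprime M ho)
    (CfsgLib.SemisimpleClasses.isSemisimple_of_coprime B hoB) (hM.trans hBc.symm)
  obtain ⟨B', hB'⟩ := (CfsgLib.UnitaryConj.similar_iff hF M).mpr ⟨Q, by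
    have e : (((M : Matrix (Fin a) (Fin a) F).map (fun x : F => x ^ q)).transpose)⁻¹ = B.1 := by
      rw [show (fun x : F => x ^ q) = ⇑σ from funext fun x => (hσ x).symm]
      exact Matrix.inv_eq_left_inv B.val_inv
    rw [e]
    exact hQ⟩
  obtain ⟨c, hc⟩ := isConj_iff.mp hB'
  have hc1 : B'.1.1.charpoly = P := by
    rw [← hc, ← hM]
    simp only [Units.val_mul, Matrix.coe_units_inv]
    exact Matrix.charpoly_units_conj c M.1
  refine ⟨B', fun t ht => hz'.pow_eq_one_iff_dvd t |>.mp ?_⟩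
  haveI : Nonempty (Fin a) := ⟨⟨0, ha⟩⟩
  have hzs : z ∈ spectrum K (B'.1.1.map ι) := by
    rw [Matrix.mem_spectrum_iff_isRoot_charpoly, Matrix.charpoly_map, hc1, IsRoot.def, eval_map]
    exact hroot z (Finset.mem_image.mpr ⟨0, Finset.mem_range.mpr ha, rfl⟩)
  have h1 := spectrum.pow_mem_pow (B'.1.1.map ι) t hzs
  rw [← Matrix.map_pow, ht, Matrix.map_one ι (map_zero ι) (map_one ι), spectrum.one_eq] at h1
  simpa using h1

/-- Block diagonal matrices. -/
def blk (a k : ℕ) : Matrix (Fin a) (Fin a) F × Matrix (Fin k) (Fin k) F →*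
    Matrix (Fin (a + k)) (Fin (a + k)) F where
  toFun M := Matrix.reindexAlgEquiv F F finSumFinEquiv (Matrix.fromBlocks M.1 0 0 M.2)
  map_one' := by
    show Matrix.reindexAlgEquiv F F finSumFinEquiv (Matrix.fromBlocks (1 : Matrix (Fin a) (Fin a) F) 0 0 1) = 1
    rw [Matrix.fromBlocks_one, map_one]
  map_mul' M N := by rw [← map_mul, Matrix.fromBlocks_multiply]; simp

omit [Fintype F] in
theorem blk_injective (a k : ℕ) : Function.Injective (blk (F := F) a k) := fun M N h => by
  have h' := (Matrix.reindexAlgEquiv F F finSumFinEquiv).injective h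
  obtain ⟨h1, -, -, h4⟩ := Matrix.fromBlocks_inj.mp h'
  exact Prod.ext h1 h4

omit [Fintype F] in
theorem blk_mulVec {a k : ℕ} (M : Matrix (Fin a) (Fin a) F × Matrix (Fin k) (Fin k) F) (u : Fin (a + k) → F) :
    (∀ i, (blk a k M *ᵥ u) (Fin.castAdd k i) = (M.1 *ᵥ fun j => u (Fin.castAdd k j)) i) ∧
    (∀ i, (blk a k M *ᵥ u) (Fin.natAdd a i) = (M.2 *ᵥ fun j => u (Fin.natAdd a j)) i) := by
  constructor <;> intro i <;>
    simp [blk, Matrix.reindexAlgEquiv_apply, Matrix.mulVec, dotProduct, Fin.sum_univ_add, Matrix.reindex_apply]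

/-- A block diagonal element with a regular unipotent block. -/
theorem exists_witness (p f : ℕ) [Fact p.Prime] [CharP F p] (hqp : q = p ^ f) (hf : 1 ≤ f)
    (hF : Fintype.card F = q ^ 2) {a k e : ℕ} (ha : 1 ≤ a) (hsep : a = 1 ∨ q ^ (a - 1) + 1 < hh q a)
    (hk : 1 ≤ k) (he : e = 0 ∨ p ^ (e - 1) < k) :
    ∃ g : Cfsg.GU (a + k) F q, ∀ t : ℕ,
      (∃ c : F, g.1.1 ^ t = Matrix.scalar (Fin (a + k)) c) → hh q a * p ^ e ∣ t := by
  classical
  have hp := (Fact.out : p.Prime)
  obtain ⟨hq, σ, hσ⟩ := CfsgLib.UnitaryBasic.frob_exists hF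
  obtain ⟨A, hA⟩ := exists_torus p f hqp hf hF ha hsep
  obtain ⟨U, hU1, hU2⟩ := CfsgLib.SpectrumPowers.exists_regular_unipotent (k := k) hF hσ hk
  set W := U.1.1
  let G : GL (Fin (a + k)) F := Units.map (blk a k)
    (MulEquiv.prodUnits.symm (A.1, Matrix.SpecialLinearGroup.toGL U.1))
  have hG : G.1 = blk a k (A.1.1, W) := rfl
  have hmem : G ∈ Cfsg.GU (a + k) F q := by
    intro u v
    show Cfsg.hermForm (a + k) F q (G.1 *ᵥ u) (G.1 *ᵥ v) = _
    rw [hG]
    simp only [Cfsg.hermForm, Fin.sum_univ_add, (blk_mulVec (A.1.1, W) _).1, (blk_mulVec (A.1.1, W) _).2]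
    exact congrArg₂ (· + ·) (A.2 _ _) (U.2 _ _)
  refine ⟨⟨G, hmem⟩, fun t ⟨c, hc⟩ => ?_⟩
  have hsc : Matrix.scalar (Fin (a + k)) c =
      blk a k (Matrix.scalar (Fin a) c, Matrix.scalar (Fin k) c) := by
    show _ = Matrix.reindexAlgEquiv F F finSumFinEquiv (Matrix.fromBlocks _ 0 0 _)
    simp [Matrix.scalar_apply, Matrix.fromBlocks_diagonal, Matrix.reindexAlgEquiv_apply]
  change G.1 ^ t = _ at hc
  rw [hG, ← map_pow, hsc, Prod.pow_mk] at hc
  obtain ⟨h1, h2⟩ := Prod.mk.inj (blk_injective a k hc)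
  haveI : Nonempty (Fin k) := ⟨⟨0, hk⟩⟩
  have hW : W ^ p ^ Nat.clog p k = 1 := by
    have : (W - 1) ^ p ^ Nat.clog p k = 0 := pow_eq_zero_of_le (Nat.le_pow_clog hp.one_lt k) hU1
    rwa [CfsgLib.Unipotent.sub_one_pow_char_pow p hk, sub_eq_zero] at this
  have hc1 : c = 1 := by
    have h3 : Matrix.scalar (Fin k) c ^ p ^ Nat.clog p k = 1 := by
      rw [← h2, ← pow_mul, mul_comm, pow_mul, hW, one_pow]
    rw [← map_pow] at h3
    have h4 : c ^ p ^ Nat.clog p k = 1 := (Matrix.scalar_inj).mp (h3.trans (map_one _).symm)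
    rw [← sub_eq_zero, ← one_pow (p ^ Nat.clog p k), ← sub_pow_char_pow] at h4
    exact sub_eq_zero.mp (eq_zero_of_pow_eq_zero h4)
  subst hc1
  rw [map_one] at h1 h2
  have hd1 : hh q a ∣ t := hA t h1
  have hd2 : p ^ e ∣ t := by
    rcases he with rfl | he
    · simp
    obtain ⟨i, -, hi⟩ := (Nat.dvd_prime_pow hp).mp (orderOf_dvd_of_pow_eq_one hW)
    have hei : e ≤ i := by
      by_contra hlt
      have h5 : W ^ p ^ (e - 1) = 1 := orderOf_dvd_iff_pow_eq_one.mp (by rw [hi]; exact pow_dvd_pow p (by omega))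
      rw [← sub_eq_zero, ← CfsgLib.Unipotent.sub_one_pow_char_pow p hk] at h5
      exact hU2 (pow_eq_zero_of_le (by omega) h5)
    exact (pow_dvd_pow p hei).trans (hi ▸ orderOf_dvd_of_pow_eq_one h2)
  refine Nat.Coprime.mul_dvd_of_dvd_of_dvd (Nat.Coprime.pow_right e ?_) hd1 hd2
  refine ((hp.coprime_iff_not_dvd).mpr fun h => ?_).symm
  have hpq : p ∣ q ^ a := by rw [hqp, ← pow_mul]; exact dvd_pow_self p (by positivity)
  have h1' : 1 ≤ q ^ a := Nat.one_le_pow _ _ (by omega)
  refine hp.not_dvd_one ?_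
  unfold hh at h
  split_ifs at h
  · have := Nat.dvd_sub hpq h
    rwa [show q ^ a - (q ^ a - 1) = 1 by omega] at this
  · have := Nat.dvd_sub h hpq
    rwa [show q ^ a + 1 - q ^ a = 1 by omega] at this

end CfsgLib.PGUOrder
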